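import Groth.Agent.PontDual.K985.Card
import Mathlib.Algebra.Module.CharacterModule
import Mathlib.GroupTheory.Index
import Mathlib.GroupTheory.FiniteAbelian.Duality
import Mathlib.RingTheory.RootsOfUnity.AlgebraicallyClosed
import Mathlib.Analysis.Complex.Polynomial.Basic

/-!
# The counting argument for duality of systems `0 → F_n → F_{n+1} → F_1 → 0`, `0 → F_1 → F_{n+1} → F_n → 0`

Pairings with values in `ℚ/ℤ`; perfectness of the pairing on `C` is deduced from perfectness on `A` and `B`
by counting, from two long exact sequences `B → C → A → B[1]`, `A → C → B → A[1]`.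
-/

set_option autoImplicit false
universe u v w

namespace K956.Count

/-- The target group. -/
abbrev T : Type := AddCircle (1 : ℚ)

section card

variable {G H : Type*} [AddCommGroup G] [AddCommGroup H]

theorem card_eq_ker_mul_range (f : G →+ H) :
    Nat.card G = Nat.card f.ker * Nat.card f.range := by
  rw [← AddSubgroup.card_mul_index f.ker, AddSubgroup.index_ker]

theorem card_hom (G : Type*) [AddCommGroup G] [Finite G] : Nat.card (G →+ T) = Nat.card G := by
  have h1 := K985.PontDual.finite_hom G
  have h2 := K985.PontDual.finite_hom (G →+ T)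
  refine le_antisymm (K985.PontDual.card_hom_le G) ?_
  refine le_trans ?_ (K985.PontDual.card_hom_le (G →+ T))
  let ev : G →+ ((G →+ T) →+ T) := (AddMonoidHom.id (G →+ T)).flip
  refine Nat.card_le_card_of_injective ev ?_
  rw [injective_iff_map_eq_zero]
  intro a ha
  by_contra hne
  obtain ⟨c, hc⟩ := CharacterModule.exists_character_apply_ne_zero_of_ne_zero hne
  exact hc (DFunLike.congr_fun ha c)

/-- Extension of characters. -/
theorem exists_extension (f : G →+ H) (hf : Function.Injective f) (χ : G →+ T) :
    ∃ ψ : H →+ T, ∀ x, ψ (f x) = χ x := by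
  have := CharacterModule.dual_surjective_of_injective (R := ℤ) f.toIntLinearMap hf
  obtain ⟨ψ, hψ⟩ := this χ
  exact ⟨ψ, fun x => DFunLike.congr_fun hψ x⟩

/-- A finite group is isomorphic to its dual. -/
theorem nonempty_dual_iso (G : Type*) [AddCommGroup G] [Finite G] : Nonempty ((G →+ T) ≃+ G) := by
  have h1 := K985.PontDual.finite_hom G
  obtain ⟨e⟩ := CommGroup.monoidHom_mulEquiv_of_hasEnoughRootsOfUnity (Multiplicative G) ℂ
  -- from characters with values in `ℚ/ℤ` to complex characters
  let φ : (G →+ T) → (Multiplicative G →* ℂˣ) := fun χ =>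
    { toFun := fun g => Circle.toUnits (AddCircle.toCircle (K985.PontDual.ratToReal (χ (Multiplicative.toAdd g))))
      map_one' := by
        rw [toAdd_one, map_zero, map_zero, AddCircle.toCircle_zero, map_one]
      map_mul' := fun a b => by
        rw [toAdd_mul, map_add, map_add, AddCircle.toCircle_add, map_mul] }
  have hφ : ∀ χ ψ, φ (χ + ψ) = φ χ * φ ψ := by
    intro χ ψ
    refine MonoidHom.ext fun g => ?_
    change Circle.toUnits (AddCircle.toCircle (K985.PontDual.ratToReal ((χ + ψ) (Multiplicative.toAdd g)))) =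
      Circle.toUnits (AddCircle.toCircle (K985.PontDual.ratToReal (χ (Multiplicative.toAdd g)))) *
      Circle.toUnits (AddCircle.toCircle (K985.PontDual.ratToReal (ψ (Multiplicative.toAdd g))))
    rw [AddMonoidHom.add_apply, map_add, AddCircle.toCircle_add, map_mul]
  have hinj : Function.Injective φ := by
    intro χ ψ h
    ext g
    apply K985.PontDual.ratToReal_injective
    apply AddCircle.injective_toCircle one_ne_zero
    have := DFunLike.congr_fun h (Multiplicative.ofAdd g)
    apply Subtype.ext
    exact congrArg (fun u : ℂˣ => (u : ℂ)) this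
  let Φ : (G →+ T) →+ G := AddMonoidHom.mk' (fun χ => Multiplicative.toAdd (e (φ χ))) (fun χ ψ => by
    rw [hφ, map_mul]
    rfl)
  have hΦ : Function.Injective Φ := fun χ ψ h => hinj (e.injective h)
  have hbij : Function.Bijective Φ := by
    have : Finite (G →+ T) := h1
    rw [Nat.bijective_iff_injective_and_card]
    exact ⟨hΦ, card_hom G⟩
  exact ⟨AddEquiv.ofBijective Φ hbij⟩

end card

section les

variable {A B C : ℕ → Type*} [∀ i, AddCommGroup (A i)] [∀ i, AddCommGroup (B i)] [∀ i, AddCommGroup (C i)]

/-- A long exact sequence `0 → B 0 → C 0 → A 0 → B 1 → …`. -/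
structure LES (B C A : ℕ → Type*) [∀ i, AddCommGroup (B i)] [∀ i, AddCommGroup (C i)]
    [∀ i, AddCommGroup (A i)] where
  f : ∀ i, B i →+ C i
  g : ∀ i, C i →+ A i
  δ : ∀ i, A i →+ B (i + 1)
  ker_f_zero : (f 0).ker = ⊥
  ker_g : ∀ i, (g i).ker = (f i).range
  ker_δ : ∀ i, (δ i).ker = (g i).range
  ker_f : ∀ i, (f (i + 1)).ker = (δ i).range

namespace LES

/-- The orders of the images of the connecting maps. -/
noncomputable def dn (s : LES B C A) : ℕ → ℕ
  | 0 => 1
  | i + 1 => Nat.card (s.δ i).range

theorem card_ker_f (s : LES B C A) (i : ℕ) : Nat.card (s.f i).ker = s.dn i := by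
  cases i with
  | zero => rw [s.ker_f_zero, AddSubgroup.card_bot]; rfl
  | succ i => rw [s.ker_f]; rfl

theorem dn_pos (s : LES B C A) [∀ i, Finite (B i)] (i : ℕ) : 0 < s.dn i := by
  rw [← s.card_ker_f]
  exact Nat.card_pos

theorem rel (s : LES B C A) (i : ℕ) :
    s.dn i * s.dn (i + 1) * Nat.card (C i) = Nat.card (B i) * Nat.card (A i) := by
  have h1 := card_eq_ker_mul_range (s.f i)
  have h2 := card_eq_ker_mul_range (s.g i)
  have h3 := card_eq_ker_mul_range (s.δ i)
  rw [s.card_ker_f] at h1
  rw [s.ker_g] at h2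
  rw [s.ker_δ] at h3
  have h4 : s.dn (i + 1) = Nat.card (s.δ i).range := rfl
  rw [h1, h2, h3, h4]
  ring

theorem dn_eq (s : LES B C A) (s' : LES A C B) [∀ i, Finite (A i)] [∀ i, Finite (B i)] [∀ i, Finite (C i)] :
    ∀ i, s.dn i = s'.dn i
  | 0 => rfl
  | i + 1 => by
    have h1 := s.rel i
    have h2 := s'.rel i
    have h3 := dn_eq s s' i
    have h4 : s.dn i * s.dn (i + 1) * Nat.card (C i) = s.dn i * s'.dn (i + 1) * Nat.card (C i) := by
      rw [h1, h3, h2, mul_comm]
    have h5 : 0 < Nat.card (C i) := Nat.card_pos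
    have h6 := Nat.eq_of_mul_eq_mul_right h5 h4
    exact Nat.eq_of_mul_eq_mul_left (s.dn_pos i) h6

end LES

/-- Left non-degeneracy in all degrees gives equality of orders. -/
theorem card_eq_of_inj {N : ℕ} [∀ i, Finite (A i)] (pA : ∀ i j, A i →+ A j →+ T)
    (hA : ∀ i j, i + j = N → Function.Injective (pA i j)) {i j : ℕ} (h : i + j = N) :
    Nat.card (A i) = Nat.card (A j) := by
  have key : ∀ i j, i + j = N → Nat.card (A i) ≤ Nat.card (A j) := by
    intro i j h
    have := K985.PontDual.finite_hom (A j)
    rw [← card_hom (A j)]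
    exact Nat.card_le_card_of_injective _ (hA i j h)
  exact le_antisymm (key i j h) (key j i (by omega))

theorem bijective_of_inj {N : ℕ} [∀ i, Finite (A i)] (pA : ∀ i j, A i →+ A j →+ T)
    (hA : ∀ i j, i + j = N → Function.Injective (pA i j)) {i j : ℕ} (h : i + j = N) :
    Function.Bijective (pA i j) := by
  have := K985.PontDual.finite_hom (A j)
  have h1 : Function.Injective (pA i j) := hA i j h
  rw [Nat.bijective_iff_injective_and_card]
  exact ⟨h1, (card_eq_of_inj pA hA h).trans (card_hom (A j)).symm⟩

/-- The annihilator of a subgroup under a perfect pairing. -/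
theorem card_annihilator {G H : Type*} [AddCommGroup G] [AddCommGroup H] [Finite G] [Finite H]
    (p : G →+ H →+ T) (hp : Function.Bijective p) (R : AddSubgroup H) :
    Nat.card {x : G | ∀ y ∈ R, p x y = 0} * Nat.card R = Nat.card G := by
  let q : G →+ (R →+ T) := (AddMonoidHom.compHom' R.subtype).comp p
  have hq : ∀ x (y : R), q x y = p x y := fun x y => rfl
  have hsurj : Function.Surjective q := by
    intro χ
    obtain ⟨ψ, hψ⟩ := exists_extension R.subtype (AddSubgroup.subtype_injective R) χ
    obtain ⟨x, hx⟩ := hp.2 ψ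
    refine ⟨x, ?_⟩
    ext y
    rw [hq, hx]
    exact hψ y
  have h1 := card_eq_ker_mul_range q
  have h2 : Nat.card q.range = Nat.card R := by
    rw [← card_hom R]
    have : q.range = ⊤ := AddMonoidHom.range_eq_top.2 hsurj
    rw [this]
    exact Nat.card_congr AddSubgroup.topEquiv.toEquiv
  have h3 : Nat.card {x : G | ∀ y ∈ R, p x y = 0} = Nat.card q.ker := by
    refine Nat.card_congr (Equiv.subtypeEquivRight fun x => ?_)
    rw [AddMonoidHom.mem_ker]
    constructor
    · intro h
      ext y
      exact h y y.2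
    · intro h y hy
      exact DFunLike.congr_fun h ⟨y, hy⟩
  rw [h1, h2, h3]

theorem nondeg {N : ℕ} [∀ i, Finite (A i)] [∀ i, Finite (B i)] [∀ i, Finite (C i)]
    (s : LES B C A) (s' : LES A C B) (hB : Subsingleton (B (N + 1)))
    (pA : ∀ i j, A i →+ A j →+ T) (pB : ∀ i j, B i →+ B j →+ T) (pC : ∀ i j, C i →+ C j →+ T)
    (hA : ∀ i j, i + j = N → Function.Injective (pA i j))
    (hpB : ∀ i j, i + j = N → Function.Injective (pB i j))
    (c1 : ∀ i j, i + j = N → ∀ x y, pC i j (s'.f i x) y = pA i j x (s.g j y))
    (c2 : ∀ i j, i + j = N → ∀ x y, pC i j x (s.f j y) = pB i j (s'.g i x) y) :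
    ∀ i j, i + j = N → Function.Injective (pC i j) := by
  -- the kernels
  have key : ∀ i j, i + j = N → Nat.card (pC i j).ker * s.dn i = s.dn (j + 1) := by
    intro i j h
    let R := (s.g j).range
    have h1 := card_annihilator (pA i j) (bijective_of_inj pA hA h) R
    -- the annihilator maps onto the kernel
    let Ann : AddSubgroup (A i) :=
      { carrier := {x | ∀ y ∈ R, pA i j x y = 0}
        zero_mem' := fun y _ => by rw [map_zero]; rfl
        add_mem' := fun {a b} ha hb y hy => by
          rw [map_add, AddMonoidHom.add_apply, ha y hy, hb y hy, add_zero]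
        neg_mem' := fun {a} ha y hy => by
          rw [map_neg, AddMonoidHom.neg_apply, ha y hy, neg_zero] }
    have hAnn : Nat.card Ann * Nat.card R = Nat.card (A i) := h1
    let φ : Ann →+ C i := (s'.f i).comp Ann.subtype
    have h2 := card_eq_ker_mul_range φ
    have h3 : φ.range = (pC i j).ker := by
      ext x
      constructor
      · rintro ⟨a, rfl⟩
        rw [AddMonoidHom.mem_ker]
        ext y
        change pC i j (s'.f i a) y = 0
        rw [c1 i j h]
        exact a.2 _ ⟨y, rfl⟩
      · intro hx
        rw [AddMonoidHom.mem_ker] at hx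
        have h4 : s'.g i x = 0 := by
          apply hpB i j h
          rw [map_zero]
          ext y
          rw [← c2 i j h, hx]
          rfl
        have h5 : x ∈ (s'.f i).range := by
          rw [← s'.ker_g]
          exact h4
        obtain ⟨a, rfl⟩ := h5
        refine ⟨⟨a, ?_⟩, rfl⟩
        rintro _ ⟨y, rfl⟩
        rw [← c1 i j h, hx]
        rfl
    have h4 : Nat.card φ.ker = s'.dn i := by
      rw [← s'.card_ker_f i]
      refine Nat.card_congr
        { toFun := fun x => ⟨x.1.1, x.2⟩
          invFun := fun x => ⟨⟨x.1, ?_⟩, x.2⟩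
          left_inv := fun x => rfl
          right_inv := fun x => rfl }
      rintro _ ⟨y, rfl⟩
      rw [← c1 i j h]
      have : s'.f i x.1 = 0 := x.2
      rw [this, map_zero]
      rfl
    have h5 : Nat.card (A j) = Nat.card R * s.dn (j + 1) := by
      have := card_eq_ker_mul_range (s.δ j)
      rw [s.ker_δ] at this
      exact this
    have h6 : Nat.card (A i) = Nat.card (A j) := card_eq_of_inj pA hA h
    have h7 : 0 < Nat.card R := Nat.card_pos
    have h8 : Nat.card R * (Nat.card (pC i j).ker * s.dn i) = Nat.card R * s.dn (j + 1) := by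
      rw [← h5, ← h6, ← hAnn, h2, h3, h4, s.dn_eq s' i]
      ring
    exact Nat.eq_of_mul_eq_mul_left h7 h8
  have hle : ∀ i j, i + j = N → s.dn i ≤ s.dn (j + 1) := by
    intro i j h
    rw [← key i j h]
    exact Nat.le_mul_of_pos_left _ Nat.card_pos
  have htop : s.dn (N + 1) = 1 := by
    change Nat.card (s.δ N).range = 1
    have : Subsingleton (s.δ N).range := ⟨fun a b => Subtype.ext (Subsingleton.elim _ _)⟩
    exact Nat.card_of_subsingleton ⟨0, zero_mem _⟩
  have heq : ∀ i j, i + j = N → s.dn i = s.dn (j + 1) := by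
    intro i j h
    refine le_antisymm (hle i j h) ?_
    cases i with
    | zero =>
      have : j = N := by omega
      subst this
      rw [htop]
      exact (s.dn_pos 0)
    | succ i =>
      exact hle (j + 1) i (by omega)
  intro i j h
  have h1 := key i j h
  rw [heq i j h] at h1
  have h2 : Nat.card (pC i j).ker = 1 := by
    have h3 : Nat.card (pC i j).ker * s.dn (j + 1) = 1 * s.dn (j + 1) := by rw [h1, one_mul]
    exact Nat.eq_of_mul_eq_mul_right (s.dn_pos _) h3
  rw [← AddMonoidHom.ker_eq_bot_iff]
  exact AddSubgroup.eq_bot_of_card_eq _ h2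

/-- The self-duality of the groups. -/
theorem nonempty_addEquiv {N : ℕ} [∀ i, Finite (A i)] (pA : ∀ i j, A i →+ A j →+ T)
    (hA : ∀ i j, i + j = N → Function.Injective (pA i j)) {i j : ℕ} (h : i + j = N) :
    Nonempty (A i ≃+ A j) := by
  obtain ⟨e⟩ := nonempty_dual_iso (A j)
  exact ⟨(AddEquiv.ofBijective (pA i j) (bijective_of_inj pA hA h)).trans e⟩

end les

end K956.Count
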