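import Groth.Agent.EtCoh.K611.Seq2
import Mathlib.RingTheory.Flat.Basic

/-!
# Two-forms vanishing étale-locally vanish (node ANN of Plan593)
-/

set_option autoImplicit false
universe u

open KaehlerDifferential K611.Gam K611.Gam2 K611.Seq2 Groth.Agent.Etbase.FFExact TensorProduct

noncomputable section

namespace K956.Ann

theorem exists_smul_eq_zero {E C M : Type*} [CommRing E] [CommRing C] [Algebra E C] [Module.Flat E C]
    [AddCommGroup M] [Module E M] (ω : M) (h : (1 : C) ⊗ₜ[E] ω = 0) (r : Ideal C) (hr : r ≠ ⊤) :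
    ∃ s : E, s ∉ r.comap (algebraMap E C) ∧ s • ω = 0 := by
  by_contra hc
  push Not at hc
  apply hr
  rw [Ideal.eq_top_iff_one]
  let g : E →ₗ[E] M := LinearMap.toSpanSingleton E M ω
  have h1 : (1 : C) ⊗ₜ[E] (1 : E) ∈ LinearMap.ker (LinearMap.lTensor C g) := by
    rw [LinearMap.mem_ker, LinearMap.lTensor_tmul, LinearMap.toSpanSingleton_apply, one_smul, h]
  have hex : Function.Exact (LinearMap.ker g).subtype g := by
    rw [LinearMap.exact_iff, Submodule.range_subtype]
  obtain ⟨t, ht⟩ := (Module.Flat.lTensor_exact C hex _).1 h1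
  have h2 : ∀ t : C ⊗[E] (LinearMap.ker g), TensorProduct.rid E C (LinearMap.lTensor C (LinearMap.ker g).subtype t) ∈ r := by
    intro t
    induction t with
    | zero => rw [map_zero, map_zero]; exact r.zero_mem
    | add x y hx hy => rw [map_add, map_add]; exact r.add_mem hx hy
    | tmul c s =>
      rw [LinearMap.lTensor_tmul, TensorProduct.rid_tmul, Submodule.subtype_apply, Algebra.smul_def]
      refine r.mul_mem_right _ ?_
      by_contra h3
      refine hc s.1 h3 ?_
      have := s.2
      rwa [LinearMap.mem_ker, LinearMap.toSpanSingleton_apply] at this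
  have h3 := h2 t
  rw [ht, TensorProduct.rid_tmul, one_smul] at h3
  exact h3

/-- Elements of modules killed by base changes. -/
theorem IsBC.exists_smul_eq_zero {E C M M' : Type*} [CommRing E] [CommRing C] [AddCommGroup M] [AddCommGroup M']
    [Module E M] [Module C M'] (f : E →+* C) (hf : f.Flat) (ψ : M →+ M') (hψ : IsBC f ψ) (ω : M) (h : ψ ω = 0)
    (r : Ideal C) (hr : r ≠ ⊤) : ∃ s : E, s ∉ r.comap f ∧ s • ω = 0 := by
  let := f.toAlgebra
  have : Module.Flat E C := hf
  let : Module E M' := Module.compHom M' f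
  have : IsScalarTower E C M' := ⟨fun a b m => by
      change (f a * b) • m = f a • b • m
      rw [mul_smul]⟩
  obtain ⟨h1, h2⟩ := hψ
  refine K956.Ann.exists_smul_eq_zero (E := E) (C := C) ω ?_ r hr
  apply h2.equiv.injective
  rw [map_zero, IsBaseChange.equiv_tmul, one_smul]
  exact h

/-- Two-forms vanish iff they vanish étale-locally. -/
theorem om2_eq_zero {E : Type u} [CommRing E] (ω : Om2 E)
    (h : ∀ q : PrimeSpectrum E, ∃ (C : Type u) (_ : CommRing C) (f : E →+* C) (_ : f.Etale) (r : PrimeSpectrum C),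
      PrimeSpectrum.comap f r = q ∧ omap2 f ω = 0) : ω = 0 := by
  have h1 : Ideal.span {s : E | s • ω = 0} = ⊤ := by
    by_contra hne
    obtain ⟨m, hm, hle⟩ := Ideal.exists_le_maximal _ hne
    obtain ⟨C, _, f, hf, r, hr, h0⟩ := h ⟨m, hm.isPrime⟩
    have hfl : f.Flat := by
      algebraize [f]
      have hE : Algebra.Etale E C := hf
      have h1 : Module.Flat E C := inferInstance
      exact h1
    obtain ⟨s, hs, hs'⟩ := IsBC.exists_smul_eq_zero f hfl (omap2 f) (isBC_omap2 f hf) ω h0 r.asIdeal r.2.ne_top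
    apply hs
    have h2 : (PrimeSpectrum.comap f r).asIdeal = m := by rw [hr]
    change s ∈ (PrimeSpectrum.comap f r).asIdeal
    rw [h2]
    exact hle (Ideal.subset_span hs')
  have h2 : ∀ s ∈ Ideal.span {s : E | s • ω = 0}, s • ω = 0 := by
    intro s hs
    induction hs using Submodule.span_induction with
    | mem x hx => exact hx
    | zero => rw [zero_smul]
    | add x y _ _ hx hy => rw [add_smul, hx, hy, add_zero]
    | smul a x _ hx => rw [smul_eq_mul, mul_smul, hx, smul_zero]
  have h3 := h2 1 (by rw [h1]; trivial)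
  rwa [one_smul] at h3

end K956.Ann
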