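import Groth.Agent.EtCoh.K961.Inv

/-!
# The Cartier operator of a toric chart of level one (node CART of Plan593)
-/

set_option autoImplicit false
universe u

open KaehlerDifferential K611.Gam K611.Gam2 K611.Frame K611.Top K56.T4 K961.Inv

noncomputable section

namespace K956.Cart

/-- `S` is the Cartier operator. -/
theorem S_of_gam {p : ℕ} [Fact p.Prime] {C : Type u} [CommRing C] (T : Tor p 1 C) (h0 : (p : C) = 0) (ζ η : Om2 C)
    (h : cl2 ζ = gam2 p h0 η) : T.S ζ = η := by
  have hφ : ∀ a, T.φ a = a ^ p := fun a => by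
    obtain ⟨b, hb⟩ := T.hφ a
    rw [hb, h0, zero_mul, add_zero]
  have h1 : gam2 p h0 η = cl2 (psi2 T η) := by
    conv_lhs => rw [eq_det T.fr η]
    unfold vol
    rw [gam2_D]
    unfold psi2 vol
    rw [hφ, smul_smul, mul_assoc]
  rw [h1] at h
  have h2 := it_cl2 T (le_refl 1) h
  have h3 : ∀ x : Om2 C, it T 1 x = T.S x := fun x => rfl
  rwa [h3, h3, S_psi2] at h2

end K956.Cart
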