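import Groth.Agent.EtCoh.K720.Tw
import Groth.Agent.EtCoh.K103.TorEt
import Groth.Agent.EtCoh.K103.TrS
import Groth.Agent.EtCoh.K762.Red
import Groth.Agent.EtCoh.K956.Cart
import Groth.Agent.EtCoh.K956.Ann

/-!
# The trace of two-forms and the Cartier operator (node HCART of Plan593)
-/

set_option autoImplicit false
universe u

open CategoryTheory CategoryTheory.Limits AlgebraicGeometry Opposite
open KaehlerDifferential K611.Gam K611.Gam2 K611.Frame K611.Top K611.Sh K611.Seq K611.Seq2 K720.Tw K56.T4 K961 K961.Inv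

noncomputable section

namespace K956.HCart

theorem isoSpec_hom_inv (Y : Scheme.{u}) [IsAffine Y] (q : PrimeSpectrum Γ(Y, ⊤)) :
    Y.isoSpec.hom (Y.isoSpec.inv q) = q := by
  change (Y.isoSpec.inv ≫ Y.isoSpec.hom) q = q
  rw [Iso.inv_hom_id]
  rfl

theorem omap2_comp_apply {B C E : Type u} [CommRing B] [CommRing C] [CommRing E] (f : B →+* C) (g : C →+* E)
    (z : Om2 B) : omap2 g (omap2 f z) = omap2 (g.comp f) z := by
  rw [omap2_comp]
  rfl

/-- Étale-local solutions of an equation between sections of the sheaf of two-forms modulo exact forms. -/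
theorem exists_local {p : ℕ} [Fact p.Prime] {X : Scheme.{u}} (h : (p : Γ(X, ⊤)) = 0) (U : X.Etale)
    (hU : IsAffine U.left) (ζ η : Om2 Γ(U.left, ⊤))
    (hz : ap ((cl2N p).sh h) U (un Om2F _ ζ) = ap ((gam2N p).sh h) U (un Om2F _ η))
    (q : PrimeSpectrum Γ(U.left, ⊤)) :
    ∃ (C : Type u) (_ : CommRing C) (f : Γ(U.left, ⊤) →+* C) (_ : f.Etale) (h0 : (p : C) = 0) (r : PrimeSpectrum C),
      PrimeSpectrum.comap f r = q ∧ cl2 (omap2 f ζ) = gam2 p h0 (omap2 f η) := by
  let hp0 := Groth.Agent.CurvesA.ArtinSchreier.cast_eq_zero_of_etale X p h U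
  have h1 : un Q2F U (cl2 ζ) = un Q2F U (gam2 p hp0 η) := by
    have e1 := NT.sh_un (cl2N p) h U ζ
    have e2 := NT.sh_un (gam2N p) h U η
    exact e1.symm.trans (hz.trans e2)
  obtain ⟨V, g, v, hv, hg⟩ := exists_eq_of_un_eq Q2F U _ _ h1 (U.left.isoSpec.inv q)
  obtain ⟨O, hO, hvO, -⟩ := exists_isAffineOpen_mem_and_subset (X := V.left) (U := ⊤) (x := v) trivial
  have : Etale (O.ι ≫ V.hom) := MorphismProperty.comp_mem _ _ _ (inferInstance : Etale O.ι) V.prop
  let W : X.Etale := Scheme.Etale.mk (O.ι ≫ V.hom)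
  let k : W ⟶ V := MorphismProperty.Over.homMk O.ι rfl
  have hW : IsAffine W.left := hO
  let l : W ⟶ U := k ≫ g
  let f : Γ(U.left, ⊤) →+* Γ(W.left, ⊤) := l.left.appTop.hom
  have h0 := Groth.Agent.CurvesA.ArtinSchreier.cast_eq_zero_of_etale X p h W
  refine ⟨Γ(W.left, ⊤), inferInstance, f, K611.Zar.etale_appTop l hW hU, h0, W.left.isoSpec.hom ⟨v, hvO⟩, ?_, ?_⟩
  · have e1 : (W.left.isoSpec.hom ≫ Spec.map l.left.appTop) ⟨v, hvO⟩ = (l.left ≫ U.left.isoSpec.hom) ⟨v, hvO⟩ := by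
      rw [Scheme.isoSpec_hom_naturality]
    rw [Scheme.Hom.comp_apply, Scheme.Hom.comp_apply] at e1
    have e2 : l.left ⟨v, hvO⟩ = U.left.isoSpec.inv q := hv
    rw [e2] at e1
    exact e1.trans (isoSpec_hom_inv U.left q)
  · have e1 : res Q2F l (cl2 ζ) = res Q2F l (gam2 p hp0 η) := by
      change res Q2F (k ≫ g) _ = res Q2F (k ≫ g) _
      rw [res_comp, hg, ← res_comp]
    have e2 : res Q2F l (cl2 ζ) = cl2 (omap2 f ζ) := rfl
    have e3 : res Q2F l (gam2 p hp0 η) = gam2 p h0 (omap2 f η) := (gam2_nat p hp0 h0 f η).symm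
    rw [← e2, e1, e3]

/-- Étale-local solutions pull back to localizations. -/
theorem exists_local_away {p : ℕ} [Fact p.Prime] {B B' : Type u} [CommRing B] [CommRing B'] [Algebra B B'] (b : B)
    [IsLocalization.Away b B'] (ζ η : Om2 B)
    (hB : ∀ q : PrimeSpectrum B, ∃ (C : Type u) (_ : CommRing C) (f : B →+* C) (_ : f.Etale) (h0 : (p : C) = 0)
      (r : PrimeSpectrum C), PrimeSpectrum.comap f r = q ∧ cl2 (omap2 f ζ) = gam2 p h0 (omap2 f η))
    (q' : PrimeSpectrum B') :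
    ∃ (C : Type u) (_ : CommRing C) (f : B' →+* C) (_ : f.Etale) (h0 : (p : C) = 0) (r : PrimeSpectrum C),
      PrimeSpectrum.comap f r = q' ∧
        cl2 (omap2 f (omap2 (algebraMap B B') ζ)) = gam2 p h0 (omap2 f (omap2 (algebraMap B B') η)) := by
  obtain ⟨C, _, f, hf, h0, r, hr, h⟩ := hB (PrimeSpectrum.comap (algebraMap B B') q')
  let C' := Localization.Away (f b)
  let j : C →+* C' := algebraMap C C'
  have hj : j.Etale := (RingHom.etale_algebraMap (R := C) (S := C')).2 (Algebra.Etale.of_isLocalizationAway (f b))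
  have hu : IsUnit ((j.comp f) b) := IsLocalization.Away.algebraMap_isUnit (f b)
  let f' : B' →+* C' := IsLocalization.Away.lift b hu
  have hcomm : f'.comp (algebraMap B B') = j.comp f := IsLocalization.Away.lift_comp b hu
  have h0' : (p : C') = 0 := by
    have := congrArg j h0
    rwa [map_natCast, map_zero] at this
  have hbr : f b ∉ r.asIdeal := by
    intro hb
    have h1 : b ∈ (PrimeSpectrum.comap (algebraMap B B') q').asIdeal := by rw [← hr]; exact hb
    exact q'.2.ne_top (Ideal.eq_top_of_isUnit_mem _ h1 (IsLocalization.Away.algebraMap_isUnit b))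
  have h2 : r ∈ Set.range (PrimeSpectrum.comap j) := by
    rw [PrimeSpectrum.localization_away_comap_range C' (f b)]
    exact hbr
  obtain ⟨r', hr'⟩ := h2
  refine ⟨C', inferInstance, f', ?_, h0', r', ?_, ?_⟩
  · have h3 : (f'.comp (algebraMap B B')).Etale := by
      rw [hcomm]
      exact etale_comp f j hf hj
    let _ := f'.toAlgebra
    let _ := (f'.comp (algebraMap B B')).toAlgebra
    have : IsScalarTower B B' C' := IsScalarTower.of_algebraMap_eq fun _ => rfl
    have : Algebra.Etale B C' := h3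
    have : Algebra.Etale B B' := Algebra.Etale.of_isLocalizationAway b
    have h4 : Algebra.Etale B' C' := Algebra.Etale.of_restrictScalars B B' C'
    exact h4
  · apply PrimeSpectrum.localization_comap_injective B' (Submonoid.powers b)
    rw [← hr, ← hr', ← PrimeSpectrum.comap_comp_apply, ← PrimeSpectrum.comap_comp_apply, hcomm]
  · rw [omap2_comp_apply, omap2_comp_apply, hcomm, ← omap2_comp_apply, ← omap2_comp_apply,
      gam2_nat p h0 h0', ← h, qmap2_cl2]

/-- The kernel of reduction modulo `p` on two-forms. -/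
theorem pow_smul_eq_zero {p N : ℕ} [Fact p.Prime] (hN : 0 < N) {E C : Type u} [CommRing E] [CommRing C]
    {TE : K56.T4.Tor p N E} {T₁ : K56.T4.Tor p 1 C} {q : E →+* C} (hc : Cpt TE T₁ q)
    (kq : RingHom.ker q = Ideal.span {(p : E)}) (ω : Om2 E) (h : omap2 q ω = 0) : p ^ (N - 1) • ω = 0 := by
  obtain ⟨a, rfl⟩ := TE.exists_smul_vol ω
  rw [omap2_smul, omap2_vol TE T₁ q hc] at h
  have h1 : q a = 0 := T₁.smul_vol_inj (by rw [h, zero_smul])
  have h2 : a ∈ RingHom.ker q := h1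
  rw [kq, Ideal.mem_span_singleton] at h2
  obtain ⟨b, rfl⟩ := h2
  rw [← Nat.cast_smul_eq_nsmul E, smul_smul, Nat.cast_pow, ← mul_assoc, ← pow_succ, Nat.sub_add_cancel hN, TE.pn,
    zero_mul, zero_smul]

/-- Node HCART of Plan593. -/
theorem hcart {p N : ℕ} [Fact p.Prime] {X : Scheme.{u}} (h : (p : Γ(X, ⊤)) = 0) (U : X.Etale) (hU : IsAffine U.left)
    {A : Type u} [CommRing A] {T : K56.T4.Tor p N A} [Algebra A Γ(U.left, ⊤)] (c : Ch T Γ(U.left, ⊤))
    (ζ η : Om2 Γ(U.left, ⊤))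
    (hz : ap ((cl2N p).sh h) U (un Om2F _ ζ) = ap ((gam2N p).sh h) U (un Om2F _ η))
    (e e' : Om2 c.E) (he : omap2 c.q e = omap2 (algebraMap _ c.B') ζ) (he' : omap2 c.q e' = omap2 (algebraMap _ c.B') η) :
    c.T'.S (p ^ (N - 1) • tr2 c.T'.fr c.TE.fr e) = p ^ (N - 1) • tr2 c.T'.fr c.TE.fr e' := by
  rcases Nat.eq_zero_or_pos N with rfl | hN
  · have h0 := c.T'.pn
    rw [pow_zero] at h0
    have h1 : ∀ x y : Om2 c.A', x = y := fun x y => by
      rw [← one_smul c.A' x, ← one_smul c.A' y, h0, zero_smul, zero_smul]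
    exact h1 _ _
  obtain ⟨T₁, hT₁⟩ := K762.Red.exists_red hN c.TE c.q c.hq c.kq
  have hloc := exists_local_away (B' := c.B') (algebraMap A Γ(U.left, ⊤) c.g) ζ η (exists_local h U hU ζ η hz)
  have key : T₁.S (omap2 (algebraMap _ c.B') ζ) = omap2 (algebraMap _ c.B') η := by
    rw [← sub_eq_zero]
    refine K956.Ann.om2_eq_zero _ fun q' => ?_
    obtain ⟨C, _, f, hf, h0, r, hr, hC⟩ := hloc q'
    refine ⟨C, inferInstance, f, hf, r, hr, ?_⟩
    obtain ⟨T₂, hT₂⟩ := K103.Tor.exists_tor_etale T₁ f hf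
    rw [map_sub, ← K961.S_nat T₁ T₂ f hT₂, K956.Cart.S_of_gam T₂ h0 _ _ hC, sub_self]
  have h1 : omap2 c.q (c.TE.S e - e') = 0 := by
    rw [map_sub, ← K961.S_nat c.TE T₁ c.q hT₁, he, he', key, sub_self]
  have h2 := pow_smul_eq_zero hN hT₁ c.kq _ h1
  have h3 : p ^ (N - 1) • tr2 c.T'.fr c.TE.fr (c.TE.S e) = p ^ (N - 1) • tr2 c.T'.fr c.TE.fr e' := by
    rw [← sub_eq_zero, ← nsmul_sub, ← map_sub (tr2 c.T'.fr c.TE.fr), ← map_nsmul (tr2 c.T'.fr c.TE.fr), h2, map_zero]
  rw [map_nsmul, ← K103.TrS.tr2_S c.T' c.TE c.cptE, h3]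

end K956.HCart
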